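import Cfsg.Agent.H776.P4.Stmts

/-!
# S5210 (3D): the configurations of points in the plane of order three
-/

set_option autoImplicit false

namespace Cfsg.Agent.H71.P4

open Cfsg Cfsg.FusionSystem
open Cfsg.Agent.H756.PU (HypK Ess Inv Com NormAut TIAut AF)
open Cfsg.Agent.H776.P4

universe u

/-! ### The combinatorics of `AG(2, 3)` -/

/-- the configurations in coordinates -/
def cfgB (T : Fin 6) (x : ZMod 3 × ZMod 3) : Bool :=
  match T with
  | 0 => x.1 = 0 ∧ x.2 = 0
  | 1 => x.2 = 0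
  | 2 => x.1 = 0
  | 3 => x.1 = x.2 ∧ x.1 ≠ 0
  | 4 => x.1 = -x.2 ∧ x.1 ≠ 0
  | 5 => x.1 = 0 ∨ x.2 = 0

/-- the elements of the dihedral group in coordinates: `x ↦ ι ^ k * x` or `x ↦ ι ^ k * star x` -/
def mapB (k : Fin 4) (e : Bool) (x : ZMod 3 × ZMod 3) : ZMod 3 × ZMod 3 :=
  let y : ZMod 3 × ZMod 3 := if e then (x.1, -x.2) else x
  match k with
  | 0 => y
  | 1 => (-y.2, y.1)
  | 2 => (-y.1, -y.2)
  | 3 => (y.2, -y.1)

/-- nine booleans as a function -/
def tab (b00 b01 b02 b10 b11 b12 b20 b21 b22 : Bool) (x : ZMod 3 × ZMod 3) : Bool :=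
  match x.1, x.2 with
  | (0 : Fin 3), (0 : Fin 3) => b00
  | (0 : Fin 3), (1 : Fin 3) => b01
  | (0 : Fin 3), (2 : Fin 3) => b02
  | (1 : Fin 3), (0 : Fin 3) => b10
  | (1 : Fin 3), (1 : Fin 3) => b11
  | (1 : Fin 3), (2 : Fin 3) => b12
  | (2 : Fin 3), (0 : Fin 3) => b20
  | (2 : Fin 3), (1 : Fin 3) => b21
  | (2 : Fin 3), (2 : Fin 3) => b22

/-- closed in the square directions -/
def clo (p : ZMod 3 × ZMod 3 → Bool) : Prop :=
  (∀ a b : ZMod 3, p (a, b) → p (a + 1, b) → p (a - 1, b)) ∧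
  (∀ a b : ZMod 3, p (a, b) → p (a, b + 1) → p (a, b - 1)) ∧
  (∀ a b : ZMod 3, ¬ (p (a, b) ∧ p (a + 1, b + 1) ∧ p (a - 1, b - 1))) ∧
  (∀ a b : ZMod 3, ¬ (p (a, b) ∧ p (a + 1, b - 1) ∧ p (a - 1, b + 1)))

instance (p : ZMod 3 × ZMod 3 → Bool) : Decidable (clo p) := by unfold clo; infer_instance

/-- the conclusion -/
def cnc (p : ZMod 3 × ZMod 3 → Bool) : Prop :=
  ∃ (a b : ZMod 3) (T : Fin 6), (∀ x y : ZMod 3, p (x, y) = cfgB T (x - a, y - b)) ∧
    ∀ (k : Fin 4) (e : Bool), (∀ x y : ZMod 3, p (x, y) → p (mapB k e (x, y))) → mapB k e (a, b) = (a, b)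

instance (p : ZMod 3 × ZMod 3 → Bool) : Decidable (cnc p) := by unfold cnc; infer_instance

theorem comb_tab : ∀ b00 b01 b02 b10 b11 b12 b20 b21 b22 : Bool,
    (b00 || b01 || b02 || b10 || b11 || b12 || b20 || b21 || b22) →
    clo (tab b00 b01 b02 b10 b11 b12 b20 b21 b22) → cnc (tab b00 b01 b02 b10 b11 b12 b20 b21 b22) := by
  decide +kernel

theorem comb (p : ZMod 3 × ZMod 3 → Bool) (hne : ∃ x, p x) (h : clo p) : cnc p := by
  have hp : p = tab (p (0, 0)) (p (0, 1)) (p (0, 2)) (p (1, 0)) (p (1, 1)) (p (1, 2)) (p (2, 0)) (p (2, 1)) (p (2, 2)) := by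
    funext x
    obtain ⟨a, b⟩ := x
    have ha : a = 0 ∨ a = 1 ∨ a = 2 := by revert a; decide
    have hb : b = 0 ∨ b = 1 ∨ b = 2 := by revert b; decide
    rcases ha with rfl | rfl | rfl <;> rcases hb with rfl | rfl | rfl <;> rfl
  rw [hp]
  apply comb_tab
  · obtain ⟨⟨a, b⟩, hx⟩ := hne
    have hc : ∀ c : ZMod 3, c = 0 ∨ c = 1 ∨ c = 2 := by decide
    have ha := hc a
    have hb := hc b
    rcases ha with rfl | rfl | rfl <;> rcases hb with rfl | rfl | rfl <;> simp [hx]
  · rw [← hp]; exact h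

/-! ### The field with nine elements -/

section
variable {K : Type u} [Field K] [StarRing K]

theorem three_of {p n : ℕ} (hK : HypK K p n) (hq : p ^ n = 3) : p = 3 := by
  have h1 : p ∣ 3 := by
    rw [← hq]
    exact dvd_pow_self p (by have := hK.hn; omega)
  exact (Nat.prime_dvd_prime_iff_eq hK.pp Nat.prime_three).1 h1

/-- the facts used about the field -/
structure Nine (K : Type u) [Field K] [StarRing K] (ι : K) : Prop where
  char : CharP K 3
  card : Nat.card K = 9
  st : ∀ x : K, star x = x ^ 3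
  ii : ι * ι = -1

theorem nine_of {p n : ℕ} (hK : HypK K p n) (hq : p ^ n = 3) {ι : K} (hι : ι * ι = -1) : Nine K ι := by
  have h3 := three_of hK hq
  refine ⟨?_, ?_, ?_, hι⟩
  · have := hK.char; rwa [h3] at this
  · rw [hK.card, hq]; norm_num
  · intro x; rw [hK.star_eq, hq]

variable {ι : K}

namespace Nine

variable (h : Nine K ι)
include h

theorem three : (3 : K) = 0 := by
  have := h.char
  exact_mod_cast CharP.cast_eq_zero K 3

theorem st_ι : star ι = -ι := by
  rw [h.st]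
  linear_combination ι * h.ii

theorem st_st (x : K) : (x ^ 3) ^ 3 = x := by
  rw [← h.st, ← h.st, star_star]

theorem pow_eight {x : K} (hx : x ≠ 0) : x ^ 8 = 1 := by
  have h1 := h.st_st x
  apply mul_left_cancel₀ hx
  linear_combination h1

theorem ι_ne : ι ≠ 0 := by
  rintro rfl
  have := h.ii
  simp at this

/-- the coordinates -/
noncomputable def co (x : ZMod 3 × ZMod 3) : K :=
  haveI := h.char
  ZMod.castHom (dvd_refl 3) K x.1 + ZMod.castHom (dvd_refl 3) K x.2 * ι

theorem co_add (x y : ZMod 3 × ZMod 3) : h.co (x + y) = h.co x + h.co y := by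
  simp only [co, Prod.fst_add, Prod.snd_add, map_add]; ring

theorem co_neg (x : ZMod 3 × ZMod 3) : h.co (-x) = - h.co x := by
  simp only [co, Prod.fst_neg, Prod.snd_neg, map_neg]; ring

theorem co_sub (x y : ZMod 3 × ZMod 3) : h.co (x - y) = h.co x - h.co y := by
  rw [sub_eq_add_neg, co_add, co_neg, sub_eq_add_neg]

theorem co_00 : h.co (0, 0) = 0 := by simp [co]
theorem co_10 : h.co (1, 0) = 1 := by simp only [co, map_one, map_zero]; ring
theorem co_01 : h.co (0, 1) = ι := by simp only [co, map_one, map_zero]; ring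

theorem co_inj : Function.Injective h.co := by
  have := h.char
  have hz : ∀ x : ZMod 3 × ZMod 3, h.co x = 0 → x = 0 := by
    rintro ⟨a, b⟩ hx
    simp only [co] at hx
    have hc : ∀ a : ZMod 3, star (ZMod.castHom (dvd_refl 3) K a) = ZMod.castHom (dvd_refl 3) K a := by
      intro a
      rw [h.st, ← map_pow]
      congr 1
      revert a; decide
    have h2 : star (ZMod.castHom (dvd_refl 3) K a + ZMod.castHom (dvd_refl 3) K b * ι) = 0 := by
      rw [hx]; simp
    rw [star_add, star_mul', hc, hc, h.st_ι] at h2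
    have h3 : (2 : K) * (ZMod.castHom (dvd_refl 3) K b * ι) = 0 := by linear_combination hx - h2
    have h2ne : (2 : K) ≠ 0 := by
      intro h2'
      have h3' := h.three
      have : (1 : K) = 0 := by linear_combination h3' - h2'
      exact one_ne_zero this
    have h4 : ZMod.castHom (dvd_refl 3) K b = 0 := by
      rcases mul_eq_zero.1 h3 with h5 | h5
      · exact absurd h5 h2ne
      · rcases mul_eq_zero.1 h5 with h6 | h6
        · exact h6
        · exact absurd h6 h.ι_ne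
    have h5 : ZMod.castHom (dvd_refl 3) K a = 0 := by
      rw [h4] at hx; linear_combination hx
    have hi : Function.Injective (ZMod.castHom (dvd_refl 3) K) := RingHom.injective _
    have h6 : b = 0 := hi (by rw [h4, map_zero])
    have h7 : a = 0 := hi (by rw [h5, map_zero])
    rw [h6, h7]; rfl
  intro x y hxy
  have h1 := hz (x - y) (by rw [h.co_sub, hxy, sub_self])
  exact sub_eq_zero.1 h1

theorem co_bij : Function.Bijective h.co := by
  have hf : Finite K := Nat.finite_of_card_ne_zero (by rw [h.card]; norm_num)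
  refine (Nat.bijective_iff_injective_and_card _).2 ⟨h.co_inj, ?_⟩
  rw [h.card, Nat.card_prod, Nat.card_zmod]

theorem castHom_eq (f : ZMod 3 →+* K) (a : ZMod 3) :
    haveI := h.char
    ZMod.castHom (dvd_refl 3) K a = f a := by
  have := h.char
  rw [RingHom.ext_zmod (ZMod.castHom (dvd_refl 3) K) f]

/-- an automorphism of the field -/
theorem aut (τ : K ≃+* K) : (∀ x, τ x = x) ∨ ∀ x, τ x = star x := by
  have := h.char
  have hc : ∀ (σ : K →+* K) (a : ZMod 3), σ (ZMod.castHom (dvd_refl 3) K a) = ZMod.castHom (dvd_refl 3) K a := by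
    intro σ a
    exact (h.castHom_eq (σ.comp (ZMod.castHom (dvd_refl 3) K)) a).symm
  have h1 : (τ ι - ι) * (τ ι + ι) = 0 := by
    have : τ ι * τ ι = -1 := by rw [← map_mul, h.ii, map_neg, map_one]
    linear_combination this - h.ii
  rcases mul_eq_zero.1 h1 with h2 | h2
  · left
    intro x
    obtain ⟨⟨a, b⟩, rfl⟩ := h.co_bij.2 x
    simp only [co, map_add, map_mul]
    rw [show τ (ZMod.castHom (dvd_refl 3) K a) = _ from hc τ.toRingHom a,
      show τ (ZMod.castHom (dvd_refl 3) K b) = _ from hc τ.toRingHom b, sub_eq_zero.1 h2]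
  · right
    intro x
    obtain ⟨⟨a, b⟩, rfl⟩ := h.co_bij.2 x
    have hs : ∀ a, star (ZMod.castHom (dvd_refl 3) K a) = ZMod.castHom (dvd_refl 3) K a := fun a =>
      hc (starRingEnd K) a
    simp only [co, map_add, map_mul, star_add, star_mul']
    rw [show τ (ZMod.castHom (dvd_refl 3) K a) = _ from hc τ.toRingHom a,
      show τ (ZMod.castHom (dvd_refl 3) K b) = _ from hc τ.toRingHom b, hs, hs, h.st_ι, eq_neg_of_add_eq_zero_left h2]

theorem st_co (a b : ZMod 3) : star (h.co (a, b)) = h.co (a, -b) := by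
  have := h.char
  have hs : ∀ a, star (ZMod.castHom (dvd_refl 3) K a) = ZMod.castHom (dvd_refl 3) K a := fun a =>
    (h.castHom_eq ((starRingEnd K).comp (ZMod.castHom (dvd_refl 3) K)) a).symm
  simp only [co, star_add, star_mul', hs, h.st_ι, map_neg]
  ring

/-- the action of the elements of `TP` in coordinates -/
theorem act_co {s l : K} (τ : K ≃+* K) (hs : s ≠ 0) (hl : l ≠ 0) (hl' : star l = l) :
    ∃ (k : Fin 4) (e : Bool), ∀ x, actK s l τ (h.co x) = h.co (mapB k e x) := by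
  have hss : star s ≠ 0 := by simpa using hs
  have hw : (l * s * (star s)⁻¹) * s ^ 2 = l := by
    rw [h.st, show l * s * (s ^ 3)⁻¹ * s ^ 2 = l * (s ^ 3 * (s ^ 3)⁻¹) by ring, mul_inv_cancel₀ (pow_ne_zero 3 hs), mul_one]
  have hl2 : l ^ 2 = 1 := by
    rw [h.st] at hl'
    apply mul_left_cancel₀ hl
    linear_combination hl'
  have hw4 : (l * s * (star s)⁻¹) ^ 4 = 1 := by
    have h8 := h.pow_eight hs
    have h1 : ((l * s * (star s)⁻¹) * s ^ 2) ^ 4 = (l ^ 2) ^ 2 := by rw [hw]; ring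
    rw [mul_pow, ← pow_mul, h8, mul_one, hl2, one_pow] at h1
    exact h1
  have hτ : ∃ e : Bool, ∀ x, τ (h.co x) = h.co (if e then (x.1, -x.2) else x) := by
    rcases h.aut τ with h1 | h1
    · exact ⟨false, fun x => by rw [h1]; rfl⟩
    · exact ⟨true, fun x => by rw [h1]; exact h.st_co x.1 x.2⟩
  obtain ⟨e, he⟩ := hτ
  have hfac : (l * s * (star s)⁻¹ - 1) * ((l * s * (star s)⁻¹ + 1) * ((l * s * (star s)⁻¹ - ι) *
      (l * s * (star s)⁻¹ + ι))) = 0 := by
    linear_combination hw4 - ((l * s * (star s)⁻¹) ^ 2 - 1) * h.ii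
  rcases mul_eq_zero.1 hfac with h1 | h1
  · refine ⟨0, e, fun x => ?_⟩
    rw [actK, sub_eq_zero.1 h1, one_mul, he]
    rfl
  rcases mul_eq_zero.1 h1 with h1 | h1
  · refine ⟨2, e, fun x => ?_⟩
    rw [actK, eq_neg_of_add_eq_zero_left h1, he]
    show _ = h.co (-(if e then (x.1, -x.2) else x))
    rw [h.co_neg]; ring
  rcases mul_eq_zero.1 h1 with h1 | h1
  · refine ⟨1, e, fun x => ?_⟩
    rw [actK, sub_eq_zero.1 h1, he]
    generalize hy : (if e then (x.1, -x.2) else x) = y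
    show _ = h.co (-(if e then (x.1, -x.2) else x).2, (if e then (x.1, -x.2) else x).1)
    rw [hy]
    simp only [co, map_neg]
    have := h.char
    linear_combination (ZMod.castHom (dvd_refl 3) K y.2) * h.ii
  · refine ⟨3, e, fun x => ?_⟩
    rw [actK, eq_neg_of_add_eq_zero_left h1, he]
    generalize hy : (if e then (x.1, -x.2) else x) = y
    show _ = h.co ((if e then (x.1, -x.2) else x).2, -(if e then (x.1, -x.2) else x).1)
    rw [hy]
    simp only [co, map_neg]
    have := h.char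
    linear_combination -(ZMod.castHom (dvd_refl 3) K y.2) * h.ii

theorem co_eq {x y : ZMod 3 × ZMod 3} {z : K} (hz : h.co y = z) : h.co x = z ↔ x = y := by
  rw [← hz]; exact h.co_inj.eq_iff

theorem mem_cfg (T : Fin 6) (x : ZMod 3 × ZMod 3) : h.co x ∈ Cfg ι T ↔ cfgB T x = true := by
  have e0 := h.co_eq (x := x) h.co_00
  have e1 := h.co_eq (x := x) h.co_10
  have e3 := h.co_eq (x := x) h.co_01
  have e2 := h.co_eq (x := x) (y := (-1, 0)) (z := -1) (by rw [← h.co_10, ← h.co_neg]; rfl)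
  have e4 := h.co_eq (x := x) (y := (0, -1)) (z := -ι) (by rw [← congrArg Neg.neg h.co_01, ← h.co_neg]; rfl)
  have f5 : h.co (1, 1) = 1 + ι := by rw [← congrArg₂ (· + ·) h.co_10 h.co_01, ← h.co_add]; rfl
  have f7 : h.co (1, -1) = 1 - ι := by rw [← congrArg₂ (· - ·) h.co_10 h.co_01, ← h.co_sub]; rfl
  have e5 := h.co_eq (x := x) f5
  have e6 := h.co_eq (x := x) (y := (-1, -1)) (z := -(1 + ι)) (by rw [← f5, ← h.co_neg]; rfl)
  have e7 := h.co_eq (x := x) f7
  have e8 := h.co_eq (x := x) (y := (-1, 1)) (z := -(1 - ι)) (by rw [← f7, ← h.co_neg]; rfl)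
  fin_cases T
  · show h.co x = 0 ↔ _
    rw [e0]
    clear e0 e1 e2 e3 e4 e5 e6 e7 e8
    revert x; decide
  · show (h.co x = 0 ∨ h.co x = 1 ∨ h.co x = -1) ↔ _
    rw [e0, e1, e2]
    clear e0 e1 e2 e3 e4 e5 e6 e7 e8
    revert x; decide
  · show (h.co x = 0 ∨ h.co x = ι ∨ h.co x = -ι) ↔ _
    rw [e0, e3, e4]
    clear e0 e1 e2 e3 e4 e5 e6 e7 e8
    revert x; decide
  · show (h.co x = 1 + ι ∨ h.co x = -(1 + ι)) ↔ _
    rw [e5, e6]
    clear e0 e1 e2 e3 e4 e5 e6 e7 e8
    revert x; decide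
  · show (h.co x = 1 - ι ∨ h.co x = -(1 - ι)) ↔ _
    rw [e7, e8]
    clear e0 e1 e2 e3 e4 e5 e6 e7 e8
    revert x; decide
  · show (h.co x = 0 ∨ h.co x = 1 ∨ h.co x = -1 ∨ h.co x = ι ∨ h.co x = -ι) ↔ _
    rw [e0, e1, e2, e3, e4]
    clear e0 e1 e2 e3 e4 e5 e6 e7 e8
    revert x; decide

end Nine

theorem actK_add (s l : K) (τ : K ≃+* K) (x y : K) : actK s l τ (x + y) = actK s l τ x + actK s l τ y := by
  simp only [actK, map_add]; ring

end

/-- (3D) -/
theorem stThreeD (hG : StGrp.{u}) (hA : StThreeA.{u}) (hB : StThreeB.{u}) (hC : StThreeC.{u}) : StThreeD.{u} := by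
  intro K _ _ p n hK hq ι hι Γ D hP hT
  have h := nine_of hK hq hι
  obtain ⟨hne, hinv, heq⟩ := hA hK hq Γ D hP hT
  obtain ⟨hb1, hb2⟩ := hB hK hq Γ hP.indu
  have hb3 := hb2 hP.syl
  have hC' := hC hK hq Γ D hP hT
  have hii := h.ii
  have h3 := h.three
  classical
  have hcnc := comb (fun x => decide (h.co x ∈ Pt Γ)) (by
    obtain ⟨κ, hκ⟩ := hne
    obtain ⟨x, rfl⟩ := h.co_bij.2 κ
    exact ⟨x, by simpa using hκ⟩) (by
    have f5 : h.co (1, 1) = 1 + ι := by rw [← congrArg₂ (· + ·) h.co_10 h.co_01, ← h.co_add]; rfl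
    have f7 : h.co (1, -1) = 1 - ι := by rw [← congrArg₂ (· - ·) h.co_10 h.co_01, ← h.co_sub]; rfl
    have g1 : ∀ a b a' b' : ZMod 3, h.co (a + a', b + b') = h.co (a, b) + h.co (a', b') := fun a b a' b' => h.co_add (a, b) (a', b')
    have g2 : ∀ a b a' b' : ZMod 3, h.co (a - a', b - b') = h.co (a, b) - h.co (a', b') := fun a b a' b' => h.co_sub (a, b) (a', b')
    refine ⟨?_, ?_, ?_, ?_⟩
    · intro a b hp hq
      simp only [decide_eq_true_eq] at hp hq ⊢
      have k1 := g1 a b 1 0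
      have k2 := g2 a b 1 0
      rw [add_zero, h.co_10] at k1
      rw [sub_zero, h.co_10] at k2
      rw [k1] at hq
      rw [k2]
      exact hb1 _ hp 1 (one_pow 4) hq
    · intro a b hp hq
      simp only [decide_eq_true_eq] at hp hq ⊢
      have k1 := g1 a b 0 1
      have k2 := g2 a b 0 1
      rw [add_zero, h.co_01] at k1
      rw [sub_zero, h.co_01] at k2
      rw [k1] at hq
      rw [k2]
      exact hb1 _ hp ι (by linear_combination (ι ^ 2 - 1) * hii) hq
    · rintro a b ⟨hp, hq, hr⟩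
      simp only [decide_eq_true_eq] at hp hq hr
      rw [g1, f5] at hq
      rw [g2, f5] at hr
      refine hb3 _ hp (1 + ι) ?_ hq hr
      linear_combination (ι ^ 2 + 4 * ι + 5) * hii - h3
    · rintro a b ⟨hp, hq, hr⟩
      simp only [decide_eq_true_eq] at hp hq hr
      rw [show (a + 1, b - 1) = (a + 1, b + -1) by rw [sub_eq_add_neg], g1, f7] at hq
      rw [show (a - 1, b + 1) = (a - 1, b - -1) by rw [sub_neg_eq_add], g2, f7] at hr
      refine hb3 _ hp (1 - ι) ?_ hq hr
      linear_combination (ι ^ 2 - 4 * ι + 5) * hii - h3)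
  obtain ⟨a, b, T, c1, c2⟩ := hcnc
  simp only [decide_eq_true_eq] at c2
  have hfix : FixK D (h.co (a, b)) := by
    intro d hd s l τ hα
    obtain ⟨k, e, hke⟩ := h.act_co τ hα.ns hα.nl hα.sl
    rw [hke, c2 k e]
    intro x y hxy
    rw [← hke]
    exact hinv d hd s l τ hα _ hxy
  have hPt : Pt Γ = {x | ∃ y ∈ Cfg ι T, x = h.co (a, b) + y} := by
    ext z
    obtain ⟨⟨x, y⟩, rfl⟩ := h.co_bij.2 z
    have k1 := c1 x y
    have k2 : h.co (x, y) ∈ Pt Γ ↔ cfgB T (x - a, y - b) = true := by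
      rw [← k1, decide_eq_true_eq]
    rw [k2, ← h.mem_cfg]
    have k3 : h.co (x - a, y - b) = h.co (x, y) - h.co (a, b) := h.co_sub (x, y) (a, b)
    rw [k3]
    constructor
    · intro hh
      exact ⟨_, hh, by ring⟩
    · rintro ⟨w, hw, hw'⟩
      rw [hw', add_sub_cancel_left]
      exact hw
  have hmem : ∀ y, y ∈ Cfg ι T → h.co (a, b) + y ∈ Pt Γ := by
    intro y hy
    rw [hPt]
    exact ⟨y, hy, rfl⟩
  refine ⟨h.co (a, b), T, hfix, hPt, ?_, ?_, heq, ?_⟩
  · intro d hd s l τ hα y hy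
    have k1 := hinv d hd s l τ hα _ (hmem y hy)
    rw [actK_add, hfix d hd s l τ hα, hPt] at k1
    obtain ⟨w, hw, hw'⟩ := k1
    rw [add_left_cancel hw']
    exact hw
  · intro α s l τ hα hcfg
    have w1 : (1 : K) * (star 1)⁻¹ = 1 := by rw [star_one, inv_one, one_mul]
    have w2 : ι * (star ι)⁻¹ = -1 := by
      rw [h.st_ι, inv_neg, mul_neg, mul_inv_cancel₀ h.ι_ne]
    have v3 : (1 + ι) ^ 4 = -1 := by linear_combination (ι ^ 2 + 4 * ι + 5) * hii - h3
    have v4 : (1 - ι) ^ 4 = -1 := by linear_combination (ι ^ 2 - 4 * ι + 5) * hii - h3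
    have n3 : (1 + ι) ≠ 0 := by
      intro h0; rw [h0] at v3; norm_num at v3
    have n4 : (1 - ι) ≠ 0 := by
      intro h0; rw [h0] at v4; norm_num at v4
    have w3 : (1 + ι) * (star (1 + ι))⁻¹ = ι := by
      rw [star_add, star_one, h.st_ι, ← sub_eq_add_neg, ← div_eq_mul_inv, div_eq_iff n4]
      linear_combination hii
    have w4 : (1 - ι) * (star (1 - ι))⁻¹ = -ι := by
      rw [star_sub, star_one, h.st_ι, sub_neg_eq_add, ← div_eq_mul_inv, div_eq_iff n3]
      linear_combination hii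
    have v2 : ι ^ 4 = 1 := by linear_combination (ι ^ 2 - 1) * hii
    fin_cases T
    · exact absurd hcfg id
    · have hcfg' : ∀ x, actK s l τ x = star x := hcfg
      have m0 := hmem 0 (Or.inl rfl)
      have m1 := hmem 1 (Or.inr (Or.inl rfl))
      rw [add_zero] at m0
      exact hC' _ m0 1 one_ne_zero m1 α s l τ hα (Or.inl ⟨one_pow 4, fun x => by rw [hcfg', w1, one_mul]⟩)
    · have hcfg' : ∀ x, actK s l τ x = -star x := hcfg
      have m0 := hmem 0 (Or.inl rfl)
      have m1 := hmem ι (Or.inr (Or.inl rfl))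
      rw [add_zero] at m0
      exact hC' _ m0 ι h.ι_ne m1 α s l τ hα (Or.inl ⟨v2, fun x => by rw [hcfg', w2]; ring⟩)
    · have hcfg' : ∀ x, actK s l τ x = -ι * star x := hcfg
      have m0 := hmem (1 + ι) (Or.inl rfl)
      have m1 := hmem (-(1 + ι)) (Or.inr rfl)
      rw [show h.co (a, b) + -(1 + ι) = h.co (a, b) + (1 + ι) + (1 + ι) by linear_combination -(1 + ι) * h3] at m1
      exact hC' _ m0 (1 + ι) n3 m1 α s l τ hα (Or.inr ⟨v3, fun x => by rw [hcfg', w3]; ring⟩)
    · have hcfg' : ∀ x, actK s l τ x = ι * star x := hcfg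
      have m0 := hmem (1 - ι) (Or.inl rfl)
      have m1 := hmem (-(1 - ι)) (Or.inr rfl)
      rw [show h.co (a, b) + -(1 - ι) = h.co (a, b) + (1 - ι) + (1 - ι) by linear_combination -(1 - ι) * h3] at m1
      exact hC' _ m0 (1 - ι) n4 m1 α s l τ hα (Or.inr ⟨v4, fun x => by rw [hcfg', w4]; ring⟩)
    · have m0 := hmem 0 (Or.inl rfl)
      have m1 := hmem 1 (Or.inr (Or.inl rfl))
      have m2 := hmem ι (Or.inr (Or.inr (Or.inr (Or.inl rfl))))
      rw [add_zero] at m0
      rcases (hcfg : (∀ x, actK s l τ x = star x) ∨ (∀ x, actK s l τ x = - star x) ∨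
        (∀ x, actK s l τ x = ι * x)) with hcfg' | hcfg' | hcfg'
      · exact hC' _ m0 1 one_ne_zero m1 α s l τ hα (Or.inl ⟨one_pow 4, fun x => by rw [hcfg', w1, one_mul]⟩)
      · exact hC' _ m0 ι h.ι_ne m2 α s l τ hα (Or.inl ⟨v2, fun x => by rw [hcfg', w2]; ring⟩)
      · obtain ⟨β, hβ⟩ := (hG hK).2.2.1 1 1 starRingAut one_ne_zero one_ne_zero (star_one K)
        have hβD : β ∈ D := by
          refine hC' _ m0 1 one_ne_zero m1 β 1 1 starRingAut hβ (Or.inl ⟨one_pow 4, fun x => ?_⟩)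
          rw [w1, actK, starRingAut_apply, star_one, inv_one]
          ring
        have hαβ : IsTorP (α * β) s l (starRingAut.trans τ) := by
          refine ⟨hα.ns, hα.nl, hα.sl, fun x => ?_, fun g => ?_, fun g => ?_, fun g => ?_, fun g => ?_⟩
          · simp only [RingEquiv.trans_apply, starRingAut_apply]
            exact hα.tst _
          · rw [MulAut.mul_apply, hα.r, hβ.r, one_mul]; rfl
          · rw [MulAut.mul_apply, hα.a, hβ.a, star_one, one_mul, one_mul, one_mul]; rfl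
          · rw [MulAut.mul_apply, hα.b, hβ.b, one_mul, one_mul]; rfl
          · rw [MulAut.mul_apply, hα.c, hβ.c, one_mul]; rfl
        have m3 : h.co (a, b) + ι + (1 - ι) ∈ Pt Γ := by
          rw [show h.co (a, b) + ι + (1 - ι) = h.co (a, b) + 1 by ring]; exact m1
        have hαβD : α * β ∈ D := by
          refine hC' _ m2 (1 - ι) n4 m3 (α * β) s l _ hαβ (Or.inr ⟨v4, fun x => ?_⟩)
          have k1 : actK s l (starRingAut.trans τ) x = actK s l τ (star x) := rfl
          rw [k1, hcfg', w4]; ring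
        exact (Subgroup.mul_mem_cancel_right D hβD).1 hαβD
  · intro t ht hst α hα
    have ht2 : (t - 1) * (t + 1) = 0 := by
      rw [h.st] at hst
      apply mul_left_cancel₀ ht
      linear_combination hst
    rcases mul_eq_zero.1 ht2 with h1 | h1
    · have h2 : t = 1 := sub_eq_zero.1 h1
      subst h2
      refine hT 1 one_ne_zero α ?_
      have k1 : (1 : K) ^ 2 = 1 := one_pow 2
      have k2 : ((1 : K) * star 1)⁻¹ = 1⁻¹ * 1⁻¹ := by rw [star_one, inv_one, mul_one, inv_one]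
      show IsTorP α (1 ^ 2) ((1 * star 1)⁻¹) (RingEquiv.refl K)
      rw [k1, k2]
      exact hα
    · have h2 : t = -1 := eq_neg_of_add_eq_zero_left h1
      subst h2
      refine hT ι h.ι_ne α ?_
      have k1 : ι ^ 2 = -1 := by rw [pow_two, hii]
      have k2 : (ι * star ι)⁻¹ = (-1)⁻¹ * (-1)⁻¹ := by
        rw [h.st_ι, mul_neg, hii]
        norm_num
      show IsTorP α (ι ^ 2) ((ι * star ι)⁻¹) (RingEquiv.refl K)
      rw [k1, k2]
      exact hα

end Cfsg.Agent.H71.P4
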